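import Mathlib
import Cfsg.Agent.Chars.Apps.Burnside

/-!
Insoluble permutation groups of degree six, and small auxiliary facts: point stabilizers in alternating
groups, groups of order twice an odd number, groups with only two prime divisors.
-/

set_option autoImplicit false

namespace CfsgLib.SmallPerm

open Subgroup

/-- The point stabilizer in `Alt (n+1)` is `Alt n`. -/
theorem alt_stabilizer_equiv {n : ℕ} (hn : 1 ≤ n) (a : Fin (n + 1)) :
    Nonempty (↥((MulAction.stabilizer (Equiv.Perm (Fin (n + 1))) a).subgroupOf (alternatingGroup (Fin (n + 1))))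
      ≃* ↥(alternatingGroup (Fin n))) := by
  let emb : Fin n ≃ {x : Fin (n + 1) // x ≠ a} := finSuccAboveEquiv a
  let φ : ↥(alternatingGroup (Fin n)) →*
      ↥((MulAction.stabilizer (Equiv.Perm (Fin (n + 1))) a).subgroupOf (alternatingGroup (Fin (n + 1)))) :=
    { toFun := fun g => ⟨⟨(g : Equiv.Perm (Fin n)).extendDomain emb, by
          rw [Equiv.Perm.mem_alternatingGroup, Equiv.Perm.sign_extendDomain]
          exact Equiv.Perm.mem_alternatingGroup.mp g.2⟩, by
          rw [Subgroup.mem_subgroupOf]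
          exact Equiv.Perm.extendDomain_apply_not_subtype _ _ (by simp)⟩
      map_one' := by
        apply Subtype.ext; apply Subtype.ext
        exact map_one (Equiv.Perm.extendDomainHom emb)
      map_mul' := fun g h => by
        apply Subtype.ext; apply Subtype.ext
        exact map_mul (Equiv.Perm.extendDomainHom emb) (g : Equiv.Perm (Fin n)) h }
  refine ⟨(MulEquiv.ofBijective φ ⟨fun g h e => ?_, fun s => ?_⟩).symm⟩
  · exact Subtype.ext (Equiv.Perm.extendDomainHom_injective emb
      (congrArg (fun z => ((z.1 : ↥(alternatingGroup (Fin (n + 1)))) : Equiv.Perm (Fin (n + 1)))) e))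
  · set σ : Equiv.Perm (Fin (n + 1)) := ((s.1 : ↥(alternatingGroup (Fin (n + 1)))) : Equiv.Perm (Fin (n + 1))) with hσ
    have hfix : σ a = a := s.2
    have hiff : ∀ x, σ x ≠ a ↔ x ≠ a := fun x => by
      constructor
      · intro h hx; exact h (hx ▸ hfix)
      · intro h hx; exact h (σ.injective (hx.trans hfix.symm))
    let τ : Equiv.Perm (Fin n) := emb.symm.permCongr (σ.subtypePerm hiff)
    have hext : τ.extendDomain emb = σ := by
      ext x : 1
      by_cases hx : x = a
      · rw [hx, Equiv.Perm.extendDomain_apply_not_subtype _ _ (by simp), hfix]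
      · rw [Equiv.Perm.extendDomain_apply_subtype τ emb hx]
        simp [τ, Equiv.permCongr_apply]
    have hsign : τ ∈ alternatingGroup (Fin n) := by
      rw [Equiv.Perm.mem_alternatingGroup, ← Equiv.Perm.sign_extendDomain τ emb, hext]
      exact Equiv.Perm.mem_alternatingGroup.mp s.1.2
    exact ⟨⟨τ, hsign⟩, Subtype.ext (Subtype.ext hext)⟩

/-- The point stabilizer in `Sym (n+1)` is `Sym n`. -/
theorem perm_stabilizer_equiv {n : ℕ} (a : Fin (n + 1)) :
    Nonempty (↥(MulAction.stabilizer (Equiv.Perm (Fin (n + 1))) a) ≃* Equiv.Perm (Fin n)) := by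
  let emb : Fin n ≃ {x : Fin (n + 1) // x ≠ a} := finSuccAboveEquiv a
  let φ : Equiv.Perm (Fin n) →* ↥(MulAction.stabilizer (Equiv.Perm (Fin (n + 1))) a) :=
    (Equiv.Perm.extendDomainHom emb).codRestrict _ fun g =>
      Equiv.Perm.extendDomain_apply_not_subtype _ _ (by simp)
  refine ⟨(MulEquiv.ofBijective φ ⟨fun g h e => ?_, fun s => ?_⟩).symm⟩
  · exact Equiv.Perm.extendDomainHom_injective emb (congrArg Subtype.val e)
  · set σ : Equiv.Perm (Fin (n + 1)) := (s : Equiv.Perm (Fin (n + 1))) with hσ
    have hfix : σ a = a := s.2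
    have hiff : ∀ x, σ x ≠ a ↔ x ≠ a := fun x => by
      constructor
      · intro h hx; exact h (hx ▸ hfix)
      · intro h hx; exact h (σ.injective (hx.trans hfix.symm))
    refine ⟨emb.symm.permCongr (σ.subtypePerm hiff), Subtype.ext ?_⟩
    show Equiv.Perm.extendDomain _ emb = σ
    ext x : 1
    by_cases hx : x = a
    · rw [hx, Equiv.Perm.extendDomain_apply_not_subtype _ _ (by simp), hfix]
    · rw [Equiv.Perm.extendDomain_apply_subtype _ emb hx]
      simp [Equiv.permCongr_apply]

/-- A group of order `2·m`, `m` odd, has a normal subgroup of index two. -/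
theorem exists_normal_index_two {G : Type*} [Group G] [Finite G] {m : ℕ}
    (hG : Nat.card G = 2 * m) (hm : Odd m) : ∃ K : Subgroup G, K.Normal ∧ K.index = 2 := by
  haveI : Fact (Nat.Prime 2) := ⟨Nat.prime_two⟩
  obtain ⟨P⟩ : Nonempty (Sylow 2 G) := inferInstance
  have hP : Nat.card P = 2 := by
    rw [P.card_eq_multiplicity, hG]
    have h : (2 * m).factorization 2 = 1 := by
      rw [Nat.factorization_mul (by norm_num) (fun h => by simp [h] at hm), Finsupp.add_apply,
        Nat.Prime.factorization_self Nat.prime_two,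
        Nat.factorization_eq_zero_of_not_dvd hm.not_two_dvd_nat]
    rw [h, pow_one]
  haveI hcyc : IsCyclic P := isCyclic_of_prime_card hP
  have hmin : (Nat.card G).minFac = 2 := (Nat.minFac_eq_two_iff _).mpr ⟨m, hG⟩
  have hcompl := hcyc.isComplement' hmin
  exact ⟨_, inferInstance, hcompl.symm.index_eq_card.trans hP⟩

theorem isSolvable_of_two_primes (G : Type*) [Group G] [Finite G] (p q a b : ℕ) (hp : p.Prime) (hq : q.Prime)
    (h : Nat.card G ∣ p ^ a * q ^ b) : Group.IsSolvable G := by
  refine CfsgLib.Chars.Apps.isSolvable_of_primeFactors_subset G hp hq fun r hr hd => ?_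
  rcases (Nat.Prime.dvd_mul hr).mp (hd.trans h) with h' | h'
  · exact Or.inl ((Nat.prime_dvd_prime_iff_eq hr hp).mp (hr.dvd_of_dvd_pow h'))
  · exact Or.inr ((Nat.prime_dvd_prime_iff_eq hr hq).mp (hr.dvd_of_dvd_pow h'))

theorem isSolvable_of_index_two {G : Type*} [Group G] (K : Subgroup G) [K.Normal] (hidx : K.index = 2)
    (hK : Group.IsSolvable ↥K) : Group.IsSolvable G := by
  haveI : Fact (Nat.Prime 2) := ⟨Nat.prime_two⟩
  haveI : IsCyclic (G ⧸ K) := isCyclic_of_prime_card (p := 2) (by rw [← Subgroup.index_eq_card]; exact hidx)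
  haveI : Group.IsSolvable (G ⧸ K) := Group.isSolvable_of_comm fun a b => IsMulCommutative.is_comm.comm a b
  exact Group.isSolvable_of_ker_le_range K.subtype (QuotientGroup.mk' K) (by simp)

/-- The two normal-subgroup facts used for `Sym n`, `n ≥ 5`: a normal subgroup without even nontrivial
elements is trivial. -/
theorem perm_normal_eq_bot {n : ℕ} (hn : 3 ≤ n) (N : Subgroup (Equiv.Perm (Fin n))) [N.Normal]
    (h : N ⊓ alternatingGroup (Fin n) = ⊥) : N = ⊥ := by
  rw [eq_bot_iff]
  intro x hx
  have hcen : ∀ g : Equiv.Perm (Fin n), x * g = g * x := by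
    intro g
    have h1 : x * g * x⁻¹ * g⁻¹ ∈ N ⊓ alternatingGroup (Fin n) := by
      refine ⟨?_, ?_⟩
      · have := mul_mem hx (‹N.Normal›.conj_mem _ (inv_mem hx) g)
        simpa [mul_assoc] using this
      · show x * g * x⁻¹ * g⁻¹ ∈ alternatingGroup (Fin n)
        rw [Equiv.Perm.mem_alternatingGroup]
        simp [map_mul, map_inv, mul_comm, mul_left_comm]
    rw [h, Subgroup.mem_bot, mul_inv_eq_one, mul_inv_eq_iff_eq_mul] at h1
    exact h1
  rw [Subgroup.mem_bot]
  ext i : 1
  by_contra hi
  simp only [Equiv.Perm.one_apply] at hi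
  obtain ⟨k, hk1, hk2⟩ : ∃ k : Fin n, k ≠ i ∧ k ≠ x i := by
    by_contra hno
    push_neg at hno
    have : Finset.univ ⊆ ({i, x i} : Finset (Fin n)) := fun k _ => by
      by_cases hk : k = i
      · simp [hk]
      · simp [hno k hk]
    have := (Finset.card_le_card this).trans Finset.card_le_two
    simp at this
    omega
  have h2 := DFunLike.congr_fun (hcen (Equiv.swap (x i) k)) i
  rw [Equiv.Perm.mul_apply, Equiv.Perm.mul_apply, Equiv.swap_apply_of_ne_of_ne (Ne.symm hi) hk1.symm,
    Equiv.swap_apply_left] at h2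
  exact hk2 h2.symm

/-- The action of a group on the cosets of a subgroup of index `m`, as a map to `Perm (Fin m)`
sending the subgroup onto the stabilizer of a point. -/
theorem exists_coset_hom {G : Type*} [Group G] [Finite G] (H : Subgroup G) {m : ℕ} (hm : H.index = m) :
    ∃ (ψ : G →* Equiv.Perm (Fin m)) (a : Fin m), ψ.ker ≤ H ∧ ∀ g, g ∈ H ↔ ψ g a = a := by
  have hcard : Nat.card (G ⧸ H) = m := by rw [← Subgroup.index_eq_card]; exact hm
  let e : (G ⧸ H) ≃ Fin m := (Finite.equivFinOfCardEq hcard)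
  let ψ : G →* Equiv.Perm (Fin m) := e.permCongrHom.toMonoidHom.comp (MulAction.toPermHom G (G ⧸ H))
  have key : ∀ g, g ∈ H ↔ ψ g (e (QuotientGroup.mk 1)) = e (QuotientGroup.mk 1) := by
    intro g
    show _ ↔ e (g • e.symm (e (QuotientGroup.mk 1))) = _
    rw [Equiv.symm_apply_apply, e.apply_eq_iff_eq, MulAction.Quotient.smul_mk, smul_eq_mul, mul_one,
      QuotientGroup.eq, mul_one, inv_mem_iff]
  exact ⟨ψ, _, fun g hg => (key g).mpr (by rw [MonoidHom.mem_ker.mp hg]; rfl), key⟩

theorem alt_six_index_lower {K : Subgroup ↥(alternatingGroup (Fin 6))} (hK : K ≠ ⊤) : 6 ≤ K.index := by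
  haveI : IsSimpleGroup ↥(alternatingGroup (Fin 6)) := alternatingGroup.isSimpleGroup (by simp)
  obtain ⟨ψ, a, hker, -⟩ := exists_coset_hom K rfl
  have hinj : Function.Injective ψ := by
    rw [← MonoidHom.ker_eq_bot_iff]
    rcases (inferInstance : ψ.ker.Normal).eq_bot_or_eq_top with h | h
    · exact h
    · exact absurd (top_le_iff.mp (h ▸ hker)) hK
  have h := Nat.card_le_card_of_injective ψ hinj
  rw [Nat.card_perm, Nat.card_fin, nat_card_alternatingGroup, Nat.card_fin] at h
  by_contra hlt
  have : K.index.factorial ≤ Nat.factorial 5 := Nat.factorial_le (by omega)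
  simp [Nat.factorial] at h this
  omega

/-- An insoluble subgroup of `Alt 6` is `Alt 6` or isomorphic to `Alt 5`. -/
theorem alt_six_insoluble (K : Subgroup ↥(alternatingGroup (Fin 6))) (hK : ¬ Group.IsSolvable ↥K) :
    (K = ⊤) ∨ (K.index = 6 ∧ Nonempty (↥K ≃* ↥(alternatingGroup (Fin 5)))) := by
  haveI hs : IsSimpleGroup ↥(alternatingGroup (Fin 6)) := alternatingGroup.isSimpleGroup (by simp)
  by_cases htop : K = ⊤
  · exact Or.inl htop
  right
  have hA : Nat.card ↥(alternatingGroup (Fin 6)) = 360 := by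
    rw [nat_card_alternatingGroup]; simp [Nat.card_fin, Nat.factorial]
  have hprod := Subgroup.index_mul_card K
  rw [hA] at hprod
  have h6 := alt_six_index_lower htop
  have hle : K.index ≤ 360 := Nat.le_of_dvd (by norm_num) ⟨_, hprod.symm⟩
  have h30 : 30 ∣ Nat.card ↥K := by
    have h2 : 2 ∣ Nat.card ↥K := by
      by_contra h
      refine hK (isSolvable_of_two_primes _ 3 5 2 1 (by norm_num) (by norm_num) ?_)
      have hc : (Nat.card ↥K).Coprime 8 :=
        ((Nat.prime_two.coprime_iff_not_dvd).mpr h).symm.pow_right 3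
      exact hc.dvd_of_dvd_mul_left ⟨K.index, by rw [mul_comm (Nat.card ↥K), hprod]; norm_num⟩
    have h3 : 3 ∣ Nat.card ↥K := by
      by_contra h
      refine hK (isSolvable_of_two_primes _ 2 5 3 1 (by norm_num) (by norm_num) ?_)
      have hc : (Nat.card ↥K).Coprime 9 :=
        (((by norm_num : Nat.Prime 3).coprime_iff_not_dvd).mpr h).symm.pow_right 2
      exact hc.dvd_of_dvd_mul_left ⟨K.index, by rw [mul_comm (Nat.card ↥K), hprod]; norm_num⟩
    have h5 : 5 ∣ Nat.card ↥K := by
      by_contra h
      refine hK (isSolvable_of_two_primes _ 2 3 3 2 (by norm_num) (by norm_num) ?_)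
      have hc : (Nat.card ↥K).Coprime 5 := (((by norm_num : Nat.Prime 5).coprime_iff_not_dvd).mpr h).symm
      exact hc.dvd_of_dvd_mul_left ⟨K.index, by rw [mul_comm (Nat.card ↥K), hprod]; norm_num⟩
    exact (show Nat.Coprime 6 5 by norm_num).mul_dvd_of_dvd_of_dvd
      ((show Nat.Coprime 2 3 by norm_num).mul_dvd_of_dvd_of_dvd h2 h3) h5
  obtain ⟨j, hj⟩ := h30
  have hcases : Nat.card ↥K = 30 ∨ Nat.card ↥K = 60 := by
    rcases Nat.lt_or_ge j 3 with hj3 | hj3
    · rw [hj] at hprod
      interval_cases j <;> omega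
    · exfalso
      have : 90 ≤ Nat.card ↥K := by omega
      nlinarith
  have h60 : Nat.card ↥K = 60 := by
    refine hcases.resolve_left fun h30 => hK ?_
    obtain ⟨M, hMn, hM⟩ := exists_normal_index_two (G := ↥K) (m := 15) h30 ⟨7, rfl⟩
    refine isSolvable_of_index_two M hM (isSolvable_of_two_primes _ 3 5 1 1 (by norm_num) (by norm_num) ?_)
    have h := Subgroup.index_mul_card M
    rw [hM, h30] at h
    exact dvd_of_eq (by omega)
  have hidx : K.index = 6 := by rw [h60] at hprod; omega
  refine ⟨hidx, ?_⟩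
  obtain ⟨ψ, a, hker, hψ⟩ := exists_coset_hom K hidx
  have hinj : Function.Injective ψ := by
    rw [← MonoidHom.ker_eq_bot_iff]
    rcases (inferInstance : ψ.ker.Normal).eq_bot_or_eq_top with h | h
    · exact h
    · exact absurd (top_le_iff.mp (h ▸ hker)) htop
  have hsign : ∀ g, ψ g ∈ alternatingGroup (Fin 6) := by
    intro g
    rw [Equiv.Perm.mem_alternatingGroup]
    rcases (inferInstance : (Equiv.Perm.sign.comp ψ).ker.Normal).eq_bot_or_eq_top with h | h
    · exfalso
      have h2 := Nat.card_le_card_of_injective _ ((MonoidHom.ker_eq_bot_iff _).mp h)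
      rw [hA] at h2
      simp at h2
    · exact MonoidHom.mem_ker.mp (h ▸ Subgroup.mem_top g : g ∈ (Equiv.Perm.sign.comp ψ).ker)
  let ψ' : ↥(alternatingGroup (Fin 6)) ≃* ↥(alternatingGroup (Fin 6)) :=
    MulEquiv.ofBijective (ψ.codRestrict _ hsign)
      (Finite.injective_iff_bijective.mp fun x y h => hinj (congrArg Subtype.val h))
  obtain ⟨e⟩ := alt_stabilizer_equiv (n := 5) (by norm_num) a
  have hmap : K.map ψ'.toMonoidHom = (MulAction.stabilizer (Equiv.Perm (Fin 6)) a).subgroupOf _ := by
    ext y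
    obtain ⟨x, rfl⟩ := ψ'.surjective y
    rw [Subgroup.mem_map_equiv, MulEquiv.symm_apply_apply, Subgroup.mem_subgroupOf]
    exact hψ x
  exact ⟨((K.equivMapOfInjective ψ'.toMonoidHom ψ'.injective).trans (MulEquiv.subgroupCongr hmap)).trans e⟩

/-- An insoluble permutation group of degree six is one of `Alt 5`, `Sym 5`, `Alt 6`, `Sym 6`. -/
theorem degree_six_insoluble (T : Subgroup (Equiv.Perm (Fin 6))) (hT : ¬ Group.IsSolvable ↥T) :
    Nonempty (↥T ≃* ↥(alternatingGroup (Fin 5))) ∨ Nonempty (↥T ≃* ↥(alternatingGroup (Fin 6))) ∨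
      Nonempty (↥T ≃* Equiv.Perm (Fin 5)) ∨ Nonempty (↥T ≃* Equiv.Perm (Fin 6)) := by
  haveI hs : IsSimpleGroup ↥(alternatingGroup (Fin 6)) := alternatingGroup.isSimpleGroup (by simp)
  set T0 : Subgroup ↥(alternatingGroup (Fin 6)) := T.subgroupOf _ with hT0
  set T1 : Subgroup ↥T := (alternatingGroup (Fin 6)).subgroupOf T with hT1
  let e01 : ↥T1 ≃* ↥T0 :=
    { toFun := fun x => ⟨⟨x.1.1, x.2⟩, x.1.2⟩
      invFun := fun x => ⟨⟨x.1.1, x.2⟩, x.1.2⟩
      left_inv := fun _ => rfl
      right_inv := fun _ => rfl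
      map_mul' := fun _ _ => rfl }
  haveI hT1n : T1.Normal := inferInstanceAs ((alternatingGroup (Fin 6)).subgroupOf T).Normal
  have hT1idx : T1.index ≤ 2 := by
    have h : T1.index ∣ (alternatingGroup (Fin 6)).index := by
      show (alternatingGroup (Fin 6)).relIndex T ∣ _
      exact Subgroup.relIndex_dvd_index_of_normal _ _
    rw [alternatingGroup.index_eq_two] at h
    exact Nat.le_of_dvd (by norm_num) h
  have hT1ns : ¬ Group.IsSolvable ↥T1 := by
    intro hsol
    rcases Nat.lt_or_ge T1.index 2 with h | h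
    · have h1 : T1.index = 1 := by
        have := T1.index_ne_zero_of_finite; omega
      rw [Subgroup.index_eq_one] at h1
      apply hT
      haveI := hsol
      exact Group.isSolvable_of_isSolvable_injective (f := (MulEquiv.subgroupCongr h1).trans Subgroup.topEquiv |>.symm.toMonoidHom)
        (MulEquiv.injective _)
    · exact hT (isSolvable_of_index_two T1 (by omega) hsol)
  have hT0ns : ¬ Group.IsSolvable ↥T0 := fun h =>
    haveI := h
    hT1ns (Group.isSolvable_of_isSolvable_injective (f := e01.toMonoidHom) e01.injective)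
  have hS6 : Nat.card (Equiv.Perm (Fin 6)) = 720 := by rw [Nat.card_perm, Nat.card_fin]; rfl
  rcases Nat.lt_or_ge T1.index 2 with h | h
  · -- `T ≤ Alt 6`
    have h1 : T1 = ⊤ := by
      rw [← Subgroup.index_eq_one]; have := T1.index_ne_zero_of_finite; omega
    let e : ↥T ≃* ↥T0 := (Subgroup.topEquiv.symm.trans (MulEquiv.subgroupCongr h1.symm)).trans e01
    rcases alt_six_insoluble T0 hT0ns with h0 | ⟨-, ⟨e5⟩⟩
    · exact Or.inr (Or.inl ⟨e.trans ((MulEquiv.subgroupCongr h0).trans Subgroup.topEquiv)⟩)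
    · exact Or.inl ⟨e.trans e5⟩
  · have hTcard : Nat.card ↥T = 2 * Nat.card ↥T0 := by
      rw [← Nat.card_congr e01.toEquiv, ← Subgroup.index_mul_card T1]
      congr 1; omega
    rcases alt_six_insoluble T0 hT0ns with h0 | ⟨hidx, -⟩
    · right; right; right
      have : T = ⊤ := by
        refine Subgroup.eq_top_of_card_eq _ ?_
        rw [hTcard, h0, Subgroup.card_top, nat_card_alternatingGroup, hS6]
        simp [Nat.card_fin, Nat.factorial]
      exact ⟨(MulEquiv.subgroupCongr this).trans Subgroup.topEquiv⟩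
    · right; right; left
      have hTidx : T.index = 6 := by
        have h1 := Subgroup.index_mul_card T
        have h2 := Subgroup.index_mul_card T0
        rw [nat_card_alternatingGroup, Nat.card_fin, hidx] at h2
        rw [hTcard, hS6] at h1
        simp [Nat.factorial] at h2
        nlinarith
      obtain ⟨ψ, a, hker, hψ⟩ := exists_coset_hom T hTidx
      have hinj : Function.Injective ψ := by
        rw [← MonoidHom.ker_eq_bot_iff]
        refine perm_normal_eq_bot (by norm_num) _ ?_
        haveI : (ψ.ker.subgroupOf (alternatingGroup (Fin 6))).Normal := inferInstance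
        rcases (inferInstance : (ψ.ker.subgroupOf (alternatingGroup (Fin 6))).Normal).eq_bot_or_eq_top with h | h
        · rwa [Subgroup.subgroupOf_eq_bot, disjoint_iff] at h
        · exfalso
          have htop : T0 = ⊤ := top_le_iff.mp fun x hx => hker (show (x : Equiv.Perm (Fin 6)) ∈ ψ.ker from
            Subgroup.mem_subgroupOf.mp (h ▸ hx))
          rw [htop, Subgroup.index_top] at hidx
          exact absurd hidx (by norm_num)
      let ψ' : Equiv.Perm (Fin 6) ≃* Equiv.Perm (Fin 6) :=
        MulEquiv.ofBijective ψ (Finite.injective_iff_bijective.mp hinj)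
      obtain ⟨e⟩ := perm_stabilizer_equiv (n := 5) a
      have hmap : T.map ψ'.toMonoidHom = MulAction.stabilizer (Equiv.Perm (Fin 6)) a := by
        ext y
        obtain ⟨x, rfl⟩ := ψ'.surjective y
        rw [Subgroup.mem_map_equiv, MulEquiv.symm_apply_apply]
        exact hψ x
      exact ⟨((T.equivMapOfInjective ψ'.toMonoidHom ψ'.injective).trans (MulEquiv.subgroupCongr hmap)).trans e⟩

end CfsgLib.SmallPerm
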