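import Mathlib
import Cfsg.Agent.SmallPerm.DegreeSix

/-!
The subgroups of index six of the symmetric group of degree six: the six point stabilizers and six
transitive subgroups, forming two conjugacy classes.
-/

set_option autoImplicit false

namespace CfsgLib.SmallPerm.SymSix

open Equiv MulAction

abbrev S6 := Equiv.Perm (Fin 6)

theorem exists_two_ne : ∀ a : Fin 6, ∃ x y : Fin 6, x ≠ y ∧ x ≠ a ∧ y ≠ a := by decide

theorem exists_ne_ne : ∀ a b : Fin 6, ∃ c : Fin 6, c ≠ a ∧ c ≠ b := by decide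

theorem add_one_ne : ∀ a : Fin 6, a + 1 ≠ a := by decide

theorem card_S6 : Nat.card S6 = 720 := by
  rw [Nat.card_perm, Nat.card_fin]; decide

theorem card_of_index {H : Subgroup S6} (h : H.index = 6) : Nat.card H = 120 := by
  have := Subgroup.card_mul_index H
  rw [h, card_S6] at this
  omega

theorem index_stabilizer_pt (a : Fin 6) : (stabilizer S6 a).index = 6 := by
  rw [MulAction.index_stabilizer_of_transitive, Nat.card_fin]

/-- An odd involution is a transposition or has no fixed point. -/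
theorem swap_or_fpf {g : S6} (h2 : orderOf g = 2) (hs : Equiv.Perm.sign g = -1) :
    g.IsSwap ∨ ∀ x, g x ≠ x := by
  haveI : Fact (Nat.Prime 2) := ⟨Nat.prime_two⟩
  obtain ⟨n, hn⟩ := Equiv.Perm.cycleType_prime_order (σ := g) (by rw [h2]; exact Nat.prime_two)
  rw [h2] at hn
  have hsum := Equiv.Perm.sum_cycleType g
  rw [hn, Multiset.sum_replicate] at hsum
  have hle : g.support.card ≤ 6 := by simpa using Finset.card_le_univ g.support
  rw [Equiv.Perm.sign_of_cycleType, hn, Multiset.sum_replicate, Multiset.card_replicate] at hs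
  simp only [smul_eq_mul] at hsum hs
  rcases n with _ | _ | _ | n
  · exact Or.inl (Equiv.Perm.card_support_eq_two.1 (by omega))
  · norm_num at hs
  · refine Or.inr fun x => ?_
    rw [← Equiv.Perm.mem_support, Finset.eq_univ_of_card g.support (by simp; omega)]
    exact Finset.mem_univ x
  · omega

/-- Fixed-point-free involutions are all conjugate. -/
theorem isConj_of_fpf {g h : S6} (hg2 : orderOf g = 2) (hh2 : orderOf h = 2)
    (hg : ∀ x, g x ≠ x) (hh : ∀ x, h x ≠ x) : IsConj g h := by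
  haveI : Fact (Nat.Prime 2) := ⟨Nat.prime_two⟩
  rw [Equiv.Perm.isConj_iff_cycleType_eq]
  have key : ∀ g : S6, orderOf g = 2 → (∀ x, g x ≠ x) → g.cycleType = Multiset.replicate 3 2 := by
    intro g h2 hf
    obtain ⟨n, hn⟩ := Equiv.Perm.cycleType_prime_order (σ := g) (by rw [h2]; exact Nat.prime_two)
    rw [h2] at hn
    have hsum := Equiv.Perm.sum_cycleType g
    rw [hn, Multiset.sum_replicate, smul_eq_mul] at hsum
    have huniv : g.support = Finset.univ := Finset.eq_univ_iff_forall.2 fun x =>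
      Equiv.Perm.mem_support.2 (hf x)
    rw [huniv, Finset.card_univ, Fintype.card_fin] at hsum
    rw [hn, show n + 1 = 3 by omega]
  rw [key g hg2 hg, key h hh2 hh]

/-- A subgroup of index six is a stabilizer or is two-transitive without transpositions. -/
theorem stab_or_no_swap {H : Subgroup S6} (hH : H.index = 6) :
    (∃ a : Fin 6, H = stabilizer S6 a) ∨
      ((∀ a : Fin 6, H ≠ stabilizer S6 a) ∧ ∀ x y : Fin 6, x ≠ y → Equiv.swap x y ∉ H) := by
  haveI : Fact (Nat.Prime 5) := ⟨by norm_num⟩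
  by_cases hst : ∃ a : Fin 6, H = stabilizer S6 a
  · exact Or.inl hst
  refine Or.inr ⟨fun a ha => hst ⟨a, ha⟩, ?_⟩
  have hHc := card_of_index hH
  obtain ⟨g, hg⟩ := exists_prime_orderOf_dvd_card' (G := H) 5 (by rw [hHc]; norm_num)
  have hg5 : orderOf (g : S6) = 5 := by rw [Subgroup.orderOf_coe]; exact hg
  obtain ⟨n, hn⟩ := Equiv.Perm.cycleType_prime_order (σ := (g : S6)) (by rw [hg5]; norm_num)
  rw [hg5] at hn
  have hsum := Equiv.Perm.sum_cycleType (g : S6)
  rw [hn, Multiset.sum_replicate, smul_eq_mul] at hsum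
  have hle : (g : S6).support.card ≤ 6 := by simpa using Finset.card_le_univ (g : S6).support
  have hn0 : n = 0 := by omega
  subst hn0
  have hcyc : Equiv.Perm.IsCycle (g : S6) :=
    Equiv.Perm.card_cycleType_eq_one.1 (by rw [hn]; rfl)
  obtain ⟨a, ha⟩ : ∃ a, (g : S6).supportᶜ = {a} := Finset.card_eq_one.1 (by
    rw [Finset.card_compl, Fintype.card_fin]; omega)
  have hfix : (g : S6) a = a := by
    have : a ∈ (g : S6).supportᶜ := by rw [ha]; simp
    simpa [Finset.mem_compl, Equiv.Perm.notMem_support] using this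
  have hmov : ∀ x, x ≠ a → (g : S6) x ≠ x := fun x hx => by
    rw [← Equiv.Perm.mem_support]
    by_contra hc
    have : x ∈ (g : S6).supportᶜ := Finset.mem_compl.2 hc
    rw [ha] at this
    exact hx (by simpa using this)
  -- the subgroup is transitive
  have h5 : ∀ x y, x ≠ a → y ≠ a → ∃ k ∈ H, k x = y ∧ k a = a := fun x y hx hy => by
    obtain ⟨i, hi⟩ := hcyc.exists_zpow_eq (hmov x hx) (hmov y hy)
    exact ⟨_, zpow_mem g.2 i, hi, Equiv.Perm.zpow_apply_eq_self_of_apply_eq_self hfix i⟩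
  obtain ⟨m, hmH, hm⟩ : ∃ m ∈ H, m a ≠ a := by
    by_contra hno
    push Not at hno
    refine hst ⟨a, Subgroup.eq_of_le_of_card_ge (fun x hx => hno x hx) ?_⟩
    rw [hHc, card_of_index (index_stabilizer_pt a)]
  have htr : ∀ x, ∃ k ∈ H, k a = x := fun x => by
    by_cases hx : x = a
    · exact ⟨1, one_mem _, by simp [hx]⟩
    · obtain ⟨k, hk, hkx, -⟩ := h5 (m a) x hm hx
      exact ⟨k * m, mul_mem hk hmH, hkx⟩
  -- two-transitive
  have h2tr : ∀ x y u v : Fin 6, x ≠ y → u ≠ v → ∃ k ∈ H, k x = u ∧ k y = v := by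
    intro x y u v hxy huv
    obtain ⟨k₁, hk₁, e₁⟩ := htr x
    obtain ⟨k₂, hk₂, e₂⟩ := htr u
    have hy' : k₁⁻¹ y ≠ a := fun h => hxy (by
      rw [← e₁, ← h]; simp)
    have hv' : k₂⁻¹ v ≠ a := fun h => huv (by
      rw [← e₂, ← h]; simp)
    obtain ⟨k, hk, hky, hka⟩ := h5 _ _ hy' hv'
    refine ⟨k₂ * k * k₁⁻¹, mul_mem (mul_mem hk₂ hk) (inv_mem hk₁), ?_, ?_⟩
    · have : k₁⁻¹ x = a := by rw [← e₁]; simp
      simp only [Equiv.Perm.mul_apply, this, hka, e₂]
    · simp only [Equiv.Perm.mul_apply, hky]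
      simp
  intro x y hxy hs
  have hall : ∀ u v : Fin 6, u ≠ v → Equiv.swap u v ∈ H := fun u v huv => by
    obtain ⟨k, hk, e1, e2⟩ := h2tr x y u v hxy huv
    rw [← e1, ← e2, Equiv.swap_apply_apply]
    exact mul_mem (mul_mem hk hs) (inv_mem hk)
  have htop : H = ⊤ := top_le_iff.1 (Equiv.Perm.closure_isSwap (α := Fin 6) ▸
    (Subgroup.closure_le H).2 fun s ⟨u, v, huv, e⟩ => e ▸ hall u v huv)
  rw [htop, Subgroup.index_top] at hH
  omega

/-- A transitive subgroup of index six. -/
theorem exists_exotic : ∃ H : Subgroup S6, H.index = 6 ∧ ∀ a : Fin 6, H ≠ stabilizer S6 a := by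
  haveI : Fact (Nat.Prime 5) := ⟨by norm_num⟩
  have hP5 : Nat.card (Equiv.Perm (Fin 5)) = 120 := by rw [Nat.card_perm, Nat.card_fin]; decide
  haveI hA5 : IsSimpleGroup ↥(alternatingGroup (Fin 5)) := alternatingGroup.isSimpleGroup (by simp)
  have hA60 : Nat.card ↥(alternatingGroup (Fin 5)) = 60 := by
    rw [nat_card_alternatingGroup, Nat.card_fin]; decide
  obtain ⟨P⟩ : Nonempty (Sylow 5 (Equiv.Perm (Fin 5))) := inferInstance
  have hPc : Nat.card P = 5 := by
    obtain ⟨n, hn⟩ := IsPGroup.iff_card.1 P.isPGroup'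
    have h1 := Subgroup.card_mul_index (P : Subgroup (Equiv.Perm (Fin 5)))
    have h2 := P.not_dvd_index
    rw [hn, hP5] at h1
    rw [hn]
    have h3 : n ≤ 2 := by
      by_contra hc
      have h5 : 5 ^ 3 ≤ 5 ^ n := Nat.pow_le_pow_right (by norm_num) (by omega)
      have h6 : 5 ^ n ≤ 120 := Nat.le_of_dvd (by norm_num) ⟨_, h1.symm⟩
      omega
    interval_cases n <;> omega
  have hsmall : ∀ N : Subgroup (Equiv.Perm (Fin 5)), N.Normal → Nat.card N ≤ 20 → N = ⊥ := by
    intro N hN hN20
    apply perm_normal_eq_bot (by norm_num) N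
    have hn : (N.subgroupOf (alternatingGroup (Fin 5))).Normal := inferInstance
    rcases hn.eq_bot_or_eq_top with h | h
    · rw [Subgroup.subgroupOf_eq_bot] at h
      exact disjoint_iff.1 h
    · rw [Subgroup.subgroupOf_eq_top] at h
      have := Subgroup.card_le_of_le h
      omega
  have hdvd : Nat.card (Sylow 5 (Equiv.Perm (Fin 5))) ∣ 24 := by
    have h1 := Sylow.card_dvd_index P
    have h2 := Subgroup.card_mul_index (P : Subgroup (Equiv.Perm (Fin 5)))
    rw [hPc, hP5] at h2
    rwa [show (P : Subgroup (Equiv.Perm (Fin 5))).index = 24 by omega] at h1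
  have hmod := card_sylow_modEq_one 5 (Equiv.Perm (Fin 5))
  have hne1 : Nat.card (Sylow 5 (Equiv.Perm (Fin 5))) ≠ 1 := by
    intro h1
    haveI : Subsingleton (Sylow 5 (Equiv.Perm (Fin 5))) := (Nat.card_eq_one_iff_unique.1 h1).1
    have := hsmall P (Sylow.normal_of_subsingleton P) (by omega)
    rw [this, Subgroup.card_bot] at hPc
    omega
  have h6 : Nat.card (Sylow 5 (Equiv.Perm (Fin 5))) = 6 := by
    have h24 := Nat.le_of_dvd (by norm_num) hdvd
    unfold Nat.ModEq at hmod
    interval_cases Nat.card (Sylow 5 (Equiv.Perm (Fin 5))) <;> omega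
  obtain ⟨e⟩ : Nonempty (Sylow 5 (Equiv.Perm (Fin 5)) ≃ Fin 6) := ⟨Finite.equivFinOfCardEq h6⟩
  let φ : Equiv.Perm (Fin 5) →* S6 :=
    e.permCongrHom.toMonoidHom.comp (MulAction.toPermHom _ (Sylow 5 (Equiv.Perm (Fin 5))))
  have hφ : Function.Injective φ := by
    rw [← MonoidHom.ker_eq_bot_iff]
    refine hsmall _ inferInstance ?_
    have hle : φ.ker ≤ Subgroup.normalizer (P : Set (Equiv.Perm (Fin 5))) := by
      intro g hg
      rw [← Sylow.stabilizer_eq_normalizer P, MulAction.mem_stabilizer_iff]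
      have h1 := DFunLike.congr_fun (MonoidHom.mem_ker.1 hg) (e P)
      have h2 : e (g • e.symm (e P)) = e P := h1
      simpa using h2
    refine le_trans (Subgroup.card_le_of_le hle) ?_
    have h3 := Subgroup.card_mul_index
      (Subgroup.normalizer (P : Set (Equiv.Perm (Fin 5))))
    rw [← Sylow.card_eq_index_normalizer P, h6, hP5] at h3
    omega
  have hidx : φ.range.index = 6 := by
    have h1 := Subgroup.card_mul_index φ.range
    rw [← Nat.card_congr (MonoidHom.ofInjective hφ).toEquiv, hP5, card_S6] at h1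
    omega
  refine ⟨φ.range, hidx, fun a ha => ?_⟩
  obtain ⟨g, hg⟩ := MulAction.exists_smul_eq (Equiv.Perm (Fin 5)) (e.symm a) (e.symm (a + 1))
  have hmem : φ g ∈ stabilizer S6 a := ha ▸ ⟨g, rfl⟩
  rw [MulAction.mem_stabilizer_iff] at hmem
  have h2 : e (g • e.symm a) = a := hmem
  rw [hg, Equiv.apply_symm_apply] at h2
  exact add_one_ne a h2

/-- The coset action automorphism attached to a transitive subgroup of index six. -/
theorem exists_outer {H : Subgroup S6} (hH : H.index = 6) :
    ∃ (θ : S6 ≃* S6) (a : Fin 6), H = (stabilizer S6 a).comap θ.toMonoidHom := by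
  obtain ⟨ψ, a, hker, hmem⟩ := exists_coset_hom H hH
  have hinj : Function.Injective ψ := by
    rw [← MonoidHom.ker_eq_bot_iff]
    apply perm_normal_eq_bot (by norm_num)
    haveI : IsSimpleGroup ↥(alternatingGroup (Fin 6)) := alternatingGroup.isSimpleGroup (by simp)
    have hn : (ψ.ker.subgroupOf (alternatingGroup (Fin 6))).Normal := inferInstance
    rcases hn.eq_bot_or_eq_top with h | h
    · rw [Subgroup.subgroupOf_eq_bot] at h
      exact disjoint_iff.1 h
    · rw [Subgroup.subgroupOf_eq_top] at h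
      have h1 := Subgroup.card_le_of_le (h.trans hker)
      rw [nat_card_alternatingGroup, Nat.card_fin, card_of_index hH] at h1
      exact absurd h1 (by decide)
  refine ⟨MulEquiv.ofBijective ψ ⟨hinj, (Finite.injective_iff_surjective).1 hinj⟩, a, ?_⟩
  ext g
  rw [Subgroup.mem_comap, MulAction.mem_stabilizer_iff]
  exact hmem g

theorem sign_map (θ : S6 ≃* S6) (g : S6) : Equiv.Perm.sign (θ g) = Equiv.Perm.sign g := by
  have : Equiv.Perm.sign.comp θ.toMonoidHom = (Equiv.Perm.sign : S6 →* ℤˣ) :=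
    Equiv.Perm.eq_sign_of_surjective_hom
      ((Equiv.Perm.sign_surjective (Fin 6)).comp θ.surjective)
  exact DFunLike.congr_fun this g

theorem orderOf_swap_two {x y : Fin 6} (h : x ≠ y) : orderOf (Equiv.swap x y) = 2 := by
  haveI : Fact (Nat.Prime 2) := ⟨Nat.prime_two⟩
  refine orderOf_eq_prime (by rw [pow_two]; exact Equiv.swap_mul_self x y) fun he => h ?_
  have := DFunLike.congr_fun he x
  simpa using this.symm

/-- Structure of all subgroups of index six. -/
theorem classify {H₀ : Subgroup S6} {θ : S6 ≃* S6} {a₀ : Fin 6} (hH₀ : H₀.index = 6)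
    (hne : ∀ a : Fin 6, H₀ ≠ stabilizer S6 a) (hθ : H₀ = (stabilizer S6 a₀).comap θ.toMonoidHom) :
    (∀ a b : Fin 6, (stabilizer S6 b).comap θ.toMonoidHom ≠ stabilizer S6 a) ∧
      ∀ H : Subgroup S6, H.index = 6 →
        (∃ a : Fin 6, H = stabilizer S6 a) ∨ ∃ b : Fin 6, H = (stabilizer S6 b).comap θ.toMonoidHom := by
  have key : ∀ (K : Subgroup S6) (η : S6 ≃* S6) (c : Fin 6), K.index = 6 →
      (∀ a : Fin 6, K ≠ stabilizer S6 a) → K = (stabilizer S6 c).comap η.toMonoidHom →
      ∀ x y, x ≠ y → ∀ z, η (Equiv.swap x y) z ≠ z := by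
    intro K η c hK hKne hKη x y hxy
    rcases swap_or_fpf ((η.orderOf_eq _).trans (orderOf_swap_two hxy))
      (by rw [sign_map, Equiv.Perm.sign_swap hxy]) with hsw | hf
    · exfalso
      obtain ⟨u, v, huv, e⟩ := hsw
      obtain ⟨k, hk⟩ := exists_ne_ne u v
      obtain ⟨t, ht⟩ := MulAction.exists_smul_eq S6 k c
      have hsw2 : t * Equiv.swap u v * t⁻¹ = Equiv.swap (t u) (t v) :=
        (Equiv.swap_apply_apply t u v).symm
      have hmem : η.symm t * Equiv.swap x y * (η.symm t)⁻¹ ∈ K := by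
        rw [hKη, Subgroup.mem_comap, MulAction.mem_stabilizer_iff]
        show η (η.symm t * Equiv.swap x y * (η.symm t)⁻¹) c = c
        rw [map_mul, map_mul, map_inv, MulEquiv.apply_symm_apply, e, hsw2]
        refine Equiv.swap_apply_of_ne_of_ne (fun h => hk.1 ?_) (fun h => hk.2 ?_)
        · apply t.injective; rw [← h]; exact ht
        · apply t.injective; rw [← h]; exact ht
      rw [← Equiv.swap_apply_apply] at hmem
      rcases stab_or_no_swap hK with ⟨a, ha⟩ | ⟨-, hno⟩
      · exact hKne a ha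
      · exact hno _ _ (fun h => hxy ((η.symm t).injective h)) hmem
    · exact hf
  have hθs := key H₀ θ a₀ hH₀ hne hθ
  refine ⟨fun a b h => ?_, fun H hH => ?_⟩
  · obtain ⟨x, y, hxy, hx, hy⟩  := exists_two_ne a
    have hmem : Equiv.swap x y ∈ stabilizer S6 a :=
      Equiv.swap_apply_of_ne_of_ne hx.symm hy.symm
    rw [← h] at hmem
    exact hθs x y hxy b hmem
  · by_cases hst : ∃ a : Fin 6, H = stabilizer S6 a
    · exact Or.inl hst
    push Not at hst
    refine Or.inr ?_
    obtain ⟨η, c, hη⟩ := exists_outer hH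
    have hηs := key H η c hH hst hη
    let τ : S6 ≃* S6 := η.symm.trans θ
    have hτ : ((stabilizer S6 c).map τ.toMonoidHom).index = 6 := by
      exact (Subgroup.index_map_equiv (stabilizer S6 c) τ).trans (index_stabilizer_pt c)
    obtain ⟨x, y, hxy, hx, hy⟩  := exists_two_ne c
    have hswc : Equiv.swap x y ∈ stabilizer S6 c :=
      Equiv.swap_apply_of_ne_of_ne hx.symm hy.symm
    -- `τ` sends transpositions to transpositions
    have hτs : (τ (Equiv.swap x y)).IsSwap := by
      rcases swap_or_fpf ((τ.orderOf_eq _).trans (orderOf_swap_two hxy))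
        (by rw [sign_map, Equiv.Perm.sign_swap hxy]) with h | hf
      · exact h
      exfalso
      obtain ⟨w, hw⟩ := isConj_iff.1 (isConj_of_fpf
        ((θ.orderOf_eq _).trans
          (orderOf_swap_two (show (0 : Fin 6) ≠ 1 by decide)))
        ((τ.orderOf_eq _).trans (orderOf_swap_two hxy))
        (hθs 0 1 (by decide)) hf)
      have h1 : η.symm (Equiv.swap x y) = θ.symm w * Equiv.swap 0 1 * (θ.symm w)⁻¹ := by
        apply θ.injective
        rw [map_mul, map_mul, map_inv, MulEquiv.apply_symm_apply]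
        exact hw.symm
      rw [← Equiv.swap_apply_apply] at h1
      have h2 := congrArg η h1
      rw [MulEquiv.apply_symm_apply] at h2
      exact hηs _ _ (fun h => (show (0 : Fin 6) ≠ 1 by decide) ((θ.symm w).injective h)) c
        (by rw [← h2]; exact hswc)
    obtain ⟨b, hb⟩ : ∃ b, (stabilizer S6 c).map τ.toMonoidHom = stabilizer S6 b := by
      rcases stab_or_no_swap hτ with h | ⟨-, hno⟩
      · exact h
      · obtain ⟨u, v, huv, e⟩ := hτs
        exact absurd ⟨_, hswc, e⟩ (hno u v huv)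
    refine ⟨b, ?_⟩
    rw [hη, ← hb]
    ext g
    constructor
    · intro hg
      exact ⟨η g, hg, congrArg θ (η.symm_apply_apply g)⟩
    · rintro ⟨w, hw, e⟩
      have : w = η g := by
        have h3 : η.symm w = g := θ.injective e
        rw [← h3, MulEquiv.apply_symm_apply]
      rw [this] at hw
      exact hw

theorem isoS5 {H : Subgroup S6} (hH : H.index = 6) : Nonempty (H ≃* Equiv.Perm (Fin 5)) := by
  obtain ⟨θ, a, ha⟩ := exists_outer hH
  obtain ⟨e⟩ := perm_stabilizer_equiv (n := 5) a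
  have hmap : H.map θ.toMonoidHom = stabilizer S6 a := by
    rw [ha, Subgroup.map_comap_eq_self_of_surjective θ.surjective]
  exact ⟨((θ.subgroupMap H).trans (MulEquiv.subgroupCongr hmap)).trans e⟩

theorem stab_injective : Function.Injective (fun a : Fin 6 => stabilizer S6 a) := by
  intro a b hab
  by_contra hne
  obtain ⟨c, hca, hcb⟩ := exists_ne_ne a b
  have h1 : Equiv.swap b c ∈ stabilizer S6 a := Equiv.swap_apply_of_ne_of_ne hne hca.symm
  have hab' : stabilizer S6 a = stabilizer S6 b := hab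
  rw [hab', MulAction.mem_stabilizer_iff, Equiv.Perm.smul_def, Equiv.swap_apply_left] at h1
  exact hcb h1

theorem card_index_six : Nat.card {H : Subgroup S6 // H.index = 6} = 12 := by
  obtain ⟨H₀, hH₀, hne⟩ := exists_exotic
  obtain ⟨θ, a₀, hθ⟩ := exists_outer hH₀
  obtain ⟨hdis, hall⟩ := classify hH₀ hne hθ
  let f : Fin 6 ⊕ Fin 6 → {H : Subgroup S6 // H.index = 6} := fun s => match s with
    | Sum.inl a => ⟨stabilizer S6 a, index_stabilizer_pt a⟩
    | Sum.inr b => ⟨(stabilizer S6 b).comap θ.toMonoidHom, by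
        rw [Subgroup.index_comap_of_surjective _ θ.surjective, index_stabilizer_pt]⟩
  have hf : Function.Bijective f := by
    refine ⟨?_, ?_⟩
    · rintro (a | a) (b | b) h <;> have h' := congrArg Subtype.val h
      · exact congrArg Sum.inl (stab_injective h')
      · exact absurd h'.symm (hdis a b)
      · exact absurd h' (hdis b a)
      · exact congrArg Sum.inr (stab_injective (Subgroup.comap_injective θ.surjective h'))
    · rintro ⟨H, hH⟩
      rcases hall H hH with ⟨a, rfl⟩ | ⟨b, rfl⟩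
      · exact ⟨Sum.inl a, rfl⟩
      · exact ⟨Sum.inr b, rfl⟩
  rw [← Nat.card_eq_of_bijective f hf]
  simp

/-- Two classes. -/
theorem two_classes : ∃ H₁ H₂ : Subgroup S6, H₁.index = 6 ∧ H₂.index = 6 ∧
    (¬ ∃ g : S6, Subgroup.map (MulAut.conj g).toMonoidHom H₁ = H₂) ∧
    ∀ H : Subgroup S6, H.index = 6 → ∃ g : S6,
      Subgroup.map (MulAut.conj g).toMonoidHom H₁ = H ∨
        Subgroup.map (MulAut.conj g).toMonoidHom H₂ = H := by
  obtain ⟨H₀, hH₀, hne⟩ := exists_exotic
  obtain ⟨θ, a₀, hθ⟩ := exists_outer hH₀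
  obtain ⟨-, hall⟩ := classify hH₀ hne hθ
  have hconj : ∀ (g : S6) (a : Fin 6),
      Subgroup.map (MulAut.conj g).toMonoidHom (stabilizer S6 a) = stabilizer S6 (g • a) :=
    fun g a => (MulAction.stabilizer_smul_eq_stabilizer_map_conj g a).symm
  refine ⟨stabilizer S6 0, H₀, index_stabilizer_pt 0, hH₀, ?_, fun H hH => ?_⟩
  · rintro ⟨g, hg⟩
    exact hne _ (hg.symm.trans (hconj g 0))
  rcases hall H hH with ⟨a, rfl⟩ | ⟨b, rfl⟩
  · obtain ⟨g, hg⟩ := MulAction.exists_smul_eq S6 (0 : Fin 6) a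
    exact ⟨g, Or.inl (by rw [hconj, hg])⟩
  · obtain ⟨g, hg⟩ := MulAction.exists_smul_eq S6 a₀ b
    refine ⟨θ.symm g, Or.inr ?_⟩
    rw [hθ, ← hg, ← hconj g a₀]
    ext x
    constructor
    · rintro ⟨y, hy, rfl⟩
      refine ⟨θ y, hy, ?_⟩
      simp
    · rintro ⟨w, hw, e⟩
      refine ⟨θ.symm w, ?_, ?_⟩
      · show θ (θ.symm w) ∈ stabilizer S6 a₀
        rwa [MulEquiv.apply_symm_apply]
      · apply θ.injective
        have e' : g * w * g⁻¹ = θ x := e
        simp [e']

end CfsgLib.SmallPerm.SymSix
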